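import Mathlib
import Cfsg.Prelude.Def_Characters
import Cfsg.Agent.Characters.Core
import Cfsg.Agent.Characters.Galois
import Cfsg.Agent.CharactersDeep.CosetAverage

/-!
# Characters with a zero

* `exists_zero_of_nonneg` : a character with nonnegative real values, mean one and degree `≠ 1`
  vanishes somewhere.
* `exists_coset_zero` : if `χ ∈ Irr(G)` restricts reducibly to the normal subgroup `N`,
  then `χ` vanishes on a coset of `N`.
-/

set_option autoImplicit false

namespace Cfsg.Agent.H727.CosetZero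

open Cfsg Cfsg.Agent.Characters.Core Cfsg.Agent.Characters.Galois
open scoped ComplexConjugate

universe u

/-- A character with nonnegative real values, mean one and degree `≠ 1` vanishes somewhere. -/
theorem exists_zero_of_nonneg {G : Type u} [Group G] [Fintype G] {θ : G → ℂ}
    (hθ : IsCharacter G θ) (hpos : ∀ g, ∃ r : ℝ, 0 ≤ r ∧ θ g = r)
    (hsum : ∑ g, θ g = Nat.card G) (h1 : θ 1 ≠ 1) : ∃ g, θ g = 0 := by
  classical
  obtain ⟨m0, ρ, rfl⟩ := hθ
  by_contra hcon
  push Not at hcon
  have hn : Nat.card G ≠ 0 := Nat.card_pos.ne'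
  set S : Finset G := Finset.univ.erase 1 with hS
  set P : ℂ := ∏ g ∈ S, ρ.character g with hP
  have hP0 : P ≠ 0 := Finset.prod_ne_zero_iff.mpr fun g _ => hcon g
  have hPint : IsIntegral ℤ P := by
    refine IsIntegral.prod _ fun g _ => ?_
    have hζ := Complex.isPrimitiveRoot_exp (Nat.card G) hn
    obtain ⟨f, hf⟩ := exists_int_poly ρ g hn pow_card_eq_one' hζ
    have h1 : IsIntegral ℤ (Complex.exp (2 * Real.pi * Complex.I / (Nat.card G))) :=
      IsIntegral.of_pow (Nat.pos_of_ne_zero hn) (by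
        rw [hζ.pow_eq_one]; exact isIntegral_one)
    have h2 := hf 1
    rw [pow_one, pow_one] at h2
    rw [h2]
    exact IsIntegral.of_mem_of_fg _ h1.fg_adjoin_singleton _
      (Polynomial.aeval_mem_adjoin_singleton ℤ _)
  have hfix : ∀ σ : ℂ ≃+* ℂ, σ P = P := by
    intro σ
    obtain ⟨m, hm, hσ⟩ := exists_pow_of_ringHom (σ : ℂ →+* ℂ) hn
    rw [hP, map_prod]
    have h1 : ∀ g ∈ S, σ (ρ.character g) = ρ.character (g ^ m) := fun g _ =>
      map_character (σ : ℂ →+* ℂ) hn hσ ρ g pow_card_eq_one'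
    rw [Finset.prod_congr rfl h1]
    let e : G ≃ G := powCoprime hm.symm
    have he : ∀ g, e g = g ^ m := fun g => rfl
    refine Finset.prod_bij (fun g _ => e g) ?_ ?_ ?_ ?_
    · intro g hg
      rw [hS, Finset.mem_erase] at hg ⊢
      refine ⟨?_, Finset.mem_univ _⟩
      intro h
      apply hg.1
      apply e.injective
      rw [h, he, one_pow]
    · intro a _ b _ hab
      exact e.injective hab
    · intro b hb
      refine ⟨e.symm b, ?_, e.apply_symm_apply b⟩
      rw [hS, Finset.mem_erase] at hb ⊢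
      refine ⟨?_, Finset.mem_univ _⟩
      intro h
      apply hb.1
      rw [← e.apply_symm_apply b, h, he, one_pow]
    · intro g _
      rfl
  obtain ⟨k, hk⟩ := exists_int_of_forall_ringEquiv hPint hfix
  have hk0 : k ≠ 0 := by
    rintro rfl
    exact hP0 (by rw [hk]; simp)
  have hPnorm : 1 ≤ ‖P‖ := by
    rw [hk, Complex.norm_intCast]
    exact_mod_cast Int.one_le_abs hk0
  have hpos' : ∀ g, 0 < ‖ρ.character g‖ := fun g => norm_pos_iff.mpr (hcon g)
  have hAG : (S.card : ℝ) ≤ ∑ g ∈ S, ‖ρ.character g‖ := by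
    have h1 : ∑ g ∈ S, (Real.log (‖ρ.character g‖) + 1) ≤ ∑ g ∈ S, ‖ρ.character g‖ := by
      refine Finset.sum_le_sum fun g _ => ?_
      have := Real.log_le_sub_one_of_pos (hpos' g)
      linarith
    have h2 : 0 ≤ ∑ g ∈ S, Real.log (‖ρ.character g‖) := by
      rw [← Real.log_prod (fun g _ => (hpos' g).ne'), ← norm_prod]
      exact Real.log_nonneg hPnorm
    rw [Finset.sum_add_distrib, Finset.sum_const, nsmul_eq_mul, mul_one] at h1
    linarith
  have hnorm : ∀ g, ((‖ρ.character g‖ : ℝ) : ℂ) = ρ.character g := by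
    intro g
    obtain ⟨r, hr, hg⟩ := hpos g
    rw [hg, Complex.norm_real, Real.norm_of_nonneg hr]
  have hsum' : ∑ g, ‖ρ.character g‖ = Nat.card G := by
    have h2 : ((∑ g, ‖ρ.character g‖ : ℝ) : ℂ) = Nat.card G := by
      rw [← hsum, Complex.ofReal_sum]
      exact Finset.sum_congr rfl fun g _ => hnorm g
    exact_mod_cast h2
  rw [← Finset.add_sum_erase _ _ (Finset.mem_univ (1 : G)), ← hS, Representation.char_one] at hsum'
  have hScard : (S.card : ℝ) = Nat.card G - 1 := by
    rw [hS, Finset.card_erase_of_mem (Finset.mem_univ _), Finset.card_univ, Nat.card_eq_fintype_card,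
      Nat.cast_sub Fintype.card_pos, Nat.cast_one]
  rw [Complex.norm_natCast] at hsum'
  have hle : ((Module.finrank ℂ (Fin m0 → ℂ) : ℕ) : ℝ) ≤ 1 := by linarith
  have hle' : Module.finrank ℂ (Fin m0 → ℂ) ≤ 1 := by exact_mod_cast hle
  have hne : Module.finrank ℂ (Fin m0 → ℂ) ≠ 0 := by
    intro h
    apply hcon 1
    rw [Representation.char_one, h, Nat.cast_zero]
  have heq : Module.finrank ℂ (Fin m0 → ℂ) = 1 := by omega
  apply h1
  rw [Representation.char_one, heq, Nat.cast_one]

/-- If `χ ∈ Irr(G)` restricts reducibly to the normal subgroup `N` then `χ` vanishes on a coset. -/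
theorem exists_coset_zero {G : Type u} [Group G] [Finite G] (N : Subgroup G) [N.Normal]
    {χ : G → ℂ} (hχ : IsIrrCharacter G χ) (hred : ¬ IsIrrCharacter N (fun n : N => χ n)) :
    ∃ x : G, ∀ n : N, χ ((n : G) * x) = 0 := by
  classical
  have := Fintype.ofFinite G
  have := Fintype.ofFinite N
  set θ : G → ℂ := fun g => (Nat.card N : ℂ)⁻¹ * ∑ n : N, (χ * fun g => conj (χ g)) ((n : G) * g)
    with hθdef
  have hθ : IsCharacter G θ :=
    Cfsg.Agent.CharactersDeep.CosetAverage.isCharacter_cosetAverage N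
      (isCharacter_mul (isIrr_isCharacter hχ) (isCharacter_conj (isIrr_isCharacter hχ)))
  have hval : ∀ g, θ g = (((Nat.card N : ℝ)⁻¹ * ∑ n : N, ‖χ ((n : G) * g)‖ ^ 2 : ℝ) : ℂ) := by
    intro g
    rw [hθdef]
    push_cast
    congr 1
    refine Finset.sum_congr rfl fun n _ => ?_
    simp only [Pi.mul_apply]
    rw [Complex.mul_conj, Complex.normSq_eq_norm_sq]
    push_cast
    rfl
  have hN : (Nat.card N : ℂ) ≠ 0 := by exact_mod_cast Nat.card_pos.ne'
  have hsum : ∑ g, θ g = Nat.card G := by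
    have h1 := Cfsg.Agent.CharactersDeep.CosetAverage.sum_mul_invariant N
      (χ * fun g => conj (χ g)) (fun _ => 1) (fun _ _ => rfl)
    simp only [mul_one] at h1
    rw [hθdef, ← h1]
    have h2 := classInner_irr_self hχ
    rw [classInner_def] at h2
    have hG : (Nat.card G : ℂ) ≠ 0 := by exact_mod_cast Nat.card_pos.ne'
    have h3 : ∑ g : G, χ g * conj (χ g) = Nat.card G := by
      field_simp at h2
      exact h2
    exact h3
  have hone : θ 1 ≠ 1 := by
    intro h
    apply hred
    apply isIrr_of_classInner_self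
    · exact isCharacter_comp N.subtype (isIrr_isCharacter hχ)
    · rw [← h, classInner_def, hθdef]
      simp
  obtain ⟨x, hx⟩ := exists_zero_of_nonneg hθ (fun g => ⟨_, by positivity, hval g⟩) hsum hone
  refine ⟨x, fun n => ?_⟩
  rw [hval x] at hx
  have hx' : (Nat.card N : ℝ)⁻¹ * ∑ n : N, ‖χ ((n : G) * x)‖ ^ 2 = 0 := by exact_mod_cast hx
  have hN' : (Nat.card N : ℝ)⁻¹ ≠ 0 := inv_ne_zero (by exact_mod_cast Nat.card_pos.ne')
  have hx2 := (mul_eq_zero.1 hx').resolve_left hN'
  rw [Finset.sum_eq_zero_iff_of_nonneg (fun _ _ => by positivity)] at hx2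
  have := hx2 n (Finset.mem_univ _)
  exact norm_eq_zero.1 (pow_eq_zero_iff (two_ne_zero)|>.1 this)

end Cfsg.Agent.H727.CosetZero
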