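import Mathlib
import Cfsg.Prelude.Def_Characters
import Cfsg.Agent.Characters.Core
import Cfsg.Agent.Characters.Linear
import Cfsg.Agent.CharDeep.PowerDegrees

/-!
# Numbers of irreducible characters of given degree

`cnt G d` is the number of irreducible characters of degree `d`.

* `sum_cnt` : `∑ d ∈ S, d ^ 2 * cnt G d = |G|` if `S` contains all the degrees;
* `cnt_le` : `cnt H d ≤ cnt G d` for an image `H` of `G`;
* `cnt_one` : `cnt G 1 = |G : G'|`.
-/

set_option autoImplicit false

namespace Cfsg.Agent.H727.DegCount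

open Cfsg Cfsg.Agent.Characters.Core

variable {G H : Type*} [Group G] [Group H]

/-- The number of irreducible characters of degree `d`. -/
noncomputable def cnt (G : Type*) [Group G] (d : ℕ) : ℕ :=
  Nat.card {χ : IrrCharacter G // (χ : G → ℂ) 1 = (d : ℂ)}

theorem cnt_pos [Finite G] (χ : IrrCharacter G) {d : ℕ} (h : (χ : G → ℂ) 1 = (d : ℂ)) :
    0 < cnt G d := by
  have := finite_irr (G := G)
  have : Nonempty {χ : IrrCharacter G // (χ : G → ℂ) 1 = (d : ℂ)} := ⟨⟨χ, h⟩⟩
  exact Nat.card_pos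

theorem exists_of_cnt_pos {d : ℕ} (h : 0 < cnt G d) :
    ∃ χ : IrrCharacter G, (χ : G → ℂ) 1 = (d : ℂ) := by
  have : Nonempty {χ : IrrCharacter G // (χ : G → ℂ) 1 = (d : ℂ)} := by
    by_contra h1
    rw [not_nonempty_iff] at h1
    rw [cnt, Nat.card_of_isEmpty] at h
    omega
  exact ⟨this.some.1, this.some.2⟩

/-- If there is only one character of degree `d` then characters of degree `d` are equal. -/
theorem eq_of_cnt_le_one [Finite G] {d : ℕ} (h : cnt G d ≤ 1) {χ ψ : G → ℂ}
    (hχ : IsIrrCharacter G χ) (hψ : IsIrrCharacter G ψ) (h1 : χ 1 = (d : ℂ)) (h2 : ψ 1 = (d : ℂ)) :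
    χ = ψ := by
  have := finite_irr (G := G)
  rw [cnt, Finite.card_le_one_iff_subsingleton] at h
  have := h.elim ⟨⟨χ, hχ⟩, h1⟩ ⟨⟨ψ, hψ⟩, h2⟩
  have h3 := congrArg (fun x => (x.1.1 : G → ℂ)) this
  exact h3

/-- The sum of the squares of the degrees. -/
theorem sum_cnt [Finite G] (S : Finset ℕ) (hS : ∀ d, 0 < cnt G d → d ∈ S) :
    ∑ d ∈ S, d ^ 2 * cnt G d = Nat.card G := by
  classical
  have := finite_irr (G := G)
  have : Fintype (IrrCharacter G) := Fintype.ofFinite _
  have hex : ∀ χ : IrrCharacter G, ∃ d : ℕ, (χ : G → ℂ) 1 = (d : ℂ) := fun χ => by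
    obtain ⟨n, -, hn⟩ := isIrr_apply_one χ.2
    exact ⟨n, hn⟩
  choose dg hdg using hex
  have h1 : ∑ χ : IrrCharacter G, dg χ ^ 2 = Nat.card G := by
    have h := Cfsg.Agent.CharDeep.PowerDegrees.sum_sq (G := G)
    simp only [hdg] at h
    exact_mod_cast h
  have h2 : ∀ χ ∈ (Finset.univ : Finset (IrrCharacter G)), dg χ ∈ S := fun χ _ =>
    hS _ (cnt_pos χ (hdg χ))
  rw [← h1, ← Finset.sum_fiberwise_of_maps_to h2]
  refine Finset.sum_congr rfl fun d _ => ?_
  have h3 : cnt G d = (Finset.univ.filter fun χ : IrrCharacter G => dg χ = d).card := by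
    rw [cnt, Nat.card_eq_fintype_card, Fintype.card_subtype]
    congr 1
    ext χ
    simp only [Finset.mem_filter, Finset.mem_univ, true_and, hdg χ, Nat.cast_inj]
  rw [h3, Finset.sum_congr rfl (g := fun _ => d ^ 2), Finset.sum_const, smul_eq_mul, mul_comm]
  intro χ hχ
  rw [(Finset.mem_filter.1 hχ).2]

/-- Degrees are at most the group order. -/
theorem le_card_of_cnt_pos [Finite G] {d : ℕ} (h : 0 < cnt G d) : d ^ 2 ≤ Nat.card G := by
  classical
  have := finite_irr (G := G)
  have : Fintype (IrrCharacter G) := Fintype.ofFinite _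
  obtain ⟨χ, hχ⟩ := exists_of_cnt_pos h
  have hex : ∀ χ : IrrCharacter G, ∃ d : ℕ, (χ : G → ℂ) 1 = (d : ℂ) := fun χ => by
    obtain ⟨n, -, hn⟩ := isIrr_apply_one χ.2
    exact ⟨n, hn⟩
  choose dg hdg using hex
  have h1 : ∑ χ : IrrCharacter G, dg χ ^ 2 = Nat.card G := by
    have h := Cfsg.Agent.CharDeep.PowerDegrees.sum_sq (G := G)
    simp only [hdg] at h
    exact_mod_cast h
  have h2 : dg χ = d := by exact_mod_cast (hdg χ).symm.trans hχ
  rw [← h1, ← h2]
  exact Finset.single_le_sum (f := fun χ => dg χ ^ 2) (fun _ _ => Nat.zero_le _) (Finset.mem_univ χ)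

/-- Groups with the same degrees have the same order. -/
theorem card_eq_of_cnt [Finite G] [Finite H] (h : ∀ d, cnt G d = cnt H d) :
    Nat.card G = Nat.card H := by
  have hS : ∀ d, 0 < cnt G d → d ∈ Finset.range (Nat.card G + 1) := fun d hd => by
    rw [Finset.mem_range]
    have := le_card_of_cnt_pos hd
    nlinarith
  rw [← sum_cnt (Finset.range (Nat.card G + 1)) hS,
    ← sum_cnt (G := H) (Finset.range (Nat.card G + 1)) (fun d hd => hS d (by rw [h]; exact hd))]
  exact Finset.sum_congr rfl fun d _ => by rw [h]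

/-- An image of `G` has at most as many characters of each degree. -/
theorem cnt_le [Finite G] (f : G →* H) (hf : Function.Surjective f) (d : ℕ) :
    cnt H d ≤ cnt G d := by
  have := finite_irr (G := G)
  refine Nat.card_le_card_of_injective
    (fun χ : {χ : IrrCharacter H // (χ : H → ℂ) 1 = (d : ℂ)} =>
      (⟨⟨_, isIrr_comp f hf χ.1.2⟩, by
        show (χ.1 : H → ℂ) (f 1) = d
        rw [map_one]; exact χ.2⟩ : {χ : IrrCharacter G // (χ : G → ℂ) 1 = (d : ℂ)})) ?_
  intro χ ψ h
  have h1 : (χ.1 : H → ℂ) ∘ f = (ψ.1 : H → ℂ) ∘ f := congrArg (fun x => (x.1.1 : G → ℂ)) h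
  apply Subtype.ext
  apply Subtype.ext
  exact hf.injective_comp_right h1

/-- If the image has the same degrees, the map is an isomorphism. -/
theorem injective_of_cnt [Finite G] [Finite H] (f : G →* H) (hf : Function.Surjective f)
    (h : ∀ d, cnt H d = cnt G d) : Function.Injective f :=
  (Function.Surjective.bijective_of_nat_card_le hf (card_eq_of_cnt h).ge).1

theorem cnt_one [Finite G] : cnt G 1 = (commutator G).index := by
  rw [← Cfsg.Agent.Characters.Linear.card_hom_eq_index_commutator]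
  rw [cnt]
  simp only [Nat.cast_one]
  exact (Nat.card_congr (Cfsg.Agent.Characters.Linear.linearEquiv G)).symm

theorem commutator_eq_top_of_cnt [Finite G] (h : cnt G 1 = 1) : commutator G = ⊤ := by
  rw [cnt_one, Subgroup.index_eq_one] at h
  exact h

theorem cnt_one_pos [Finite G] : 0 < cnt G 1 :=
  cnt_pos ⟨1, isIrr_one⟩ (by simp)

end Cfsg.Agent.H727.DegCount
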