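import Mathlib

/-!
# Numbers for the degrees of `PSL(2, q)`, `q = 2 h + 1`, `h` even
-/

set_option autoImplicit false

namespace Cfsg.Agent.H727.PslSqNum

theorem num_dvd {h A B B' C D : ℕ}
    (heq : 1 + A * (2 * h + 1) ^ 2 + B * (h + 1) ^ 2 + B' * h ^ 2 + C * (2 * h + 2) ^ 2 +
      D * (2 * h) ^ 2 = 2 * h * (h + 1) * (2 * h + 1)) :
    ∃ m : ℕ, 4 * (C + D) + (B + B') + 4 = m * (2 * h + 1) := by
  have hdvd : (2 * h + 1 : ℤ) ∣ 4 * (C + D) + (B + B') + 4 := by
    have heq' : (1 + A * (2 * h + 1) ^ 2 + B * (h + 1) ^ 2 + B' * h ^ 2 +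
      C * (2 * h + 2) ^ 2 + D * (2 * h) ^ 2 : ℤ) =
        2 * h * (h + 1) * (2 * h + 1) := by
      exact_mod_cast heq
    refine ⟨8 * h * (h + 1) - 4 * A * (2 * h + 1) - B * (2 * h + 1) - 2 * B
      - B' * (2 * h - 1) - 4 * C * (2 * h + 1) - 8 * C
      - 4 * D * (2 * h - 1), ?_⟩
    linear_combination 4 * heq'
  have h1 : (2 * h + 1) ∣ 4 * (C + D) + (B + B') + 4 := by exact_mod_cast hdvd
  obtain ⟨m, hm⟩ := h1
  exact ⟨m, by rw [hm, mul_comm]⟩

theorem num_four {A B B' C D : ℕ} (hA : A ≤ 1) (hB : B ≤ 2)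
    (hB' : B' ≤ 2) (hC : C + 1 ≤ 4) (hD : D ≤ 4)
    (heq : 1 + A * 81 + B * 25 + B' * 16 + C * 100 + D * 64 = 360) :
    A = 1 ∧ B = 2 ∧ B' = 0 ∧ 2 * C + 2 = 4 ∧ 2 * D = 4 := by
  have h1 : C ≤ 3 := by omega
  clear hC
  interval_cases A <;> interval_cases B <;> interval_cases B' <;> interval_cases C <;> omega

/-- The degrees of `PSL(2, q)` inside those of `SL(2, q)`. -/
theorem num_psl {h A B B' C D : ℕ} (h4 : 4 ≤ h) (he : Even h) (hA : A ≤ 1) (hB : B ≤ 2)
    (hB' : B' ≤ 2) (hC : C + 1 ≤ h) (hD : D ≤ h)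
    (heq : 1 + A * (2 * h + 1) ^ 2 + B * (h + 1) ^ 2 + B' * h ^ 2 + C * (2 * h + 2) ^ 2 +
      D * (2 * h) ^ 2 = 2 * h * (h + 1) * (2 * h + 1)) :
    A = 1 ∧ B = 2 ∧ B' = 0 ∧ 2 * C + 2 = h ∧ 2 * D = h := by
  obtain ⟨m, hm⟩ := num_dvd heq
  rcases eq_or_lt_of_le h4 with rfl | h5
  · exact num_four hA hB hB' hC hD (by norm_num at heq; linarith)
  have h6 : 6 ≤ h := by
    obtain ⟨k, rfl⟩ := he
    omega
  have hu1 : C + D ≤ h + 1 := by
    by_contra hc
    have hc' : h + 2 ≤ C + D := by omega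
    have h2 : (h + 2) * (2 * h) ^ 2 ≤ (C + D) * (2 * h) ^ 2 := Nat.mul_le_mul_right _ hc'
    have h3 : C * (2 * h) ^ 2 ≤ C * (2 * h + 2) ^ 2 := Nat.mul_le_mul_left _ (by nlinarith)
    nlinarith
  have hu2 : h ≤ C + D + 2 := by
    by_contra hc
    have hc' : C + D + 3 ≤ h := by omega
    have h2 : (C + D + 3) * (2 * h) ^ 2 ≤ h * (2 * h) ^ 2 := Nat.mul_le_mul_right _ hc'
    have h3 : C * (4 * (2 * h + 1)) ≤ (h - 1) * (4 * (2 * h + 1)) := Nat.mul_le_mul_right _ (by omega)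
    obtain ⟨g, rfl⟩ : ∃ g, h = g + 1 := ⟨h - 1, by omega⟩
    have h4 : A * (2 * (g + 1) + 1) ^ 2 ≤ 1 * (2 * (g + 1) + 1) ^ 2 := Nat.mul_le_mul_right _ hA
    have h5 : B * (g + 1 + 1) ^ 2 ≤ 2 * (g + 1 + 1) ^ 2 := Nat.mul_le_mul_right _ hB
    have h6 : B' * (g + 1) ^ 2 ≤ 2 * (g + 1) ^ 2 := Nat.mul_le_mul_right _ hB'
    simp only [Nat.add_sub_cancel] at h3
    nlinarith
  have hm2 : m = 2 := by
    have h2 : m < 3 := by
      by_contra hc
      have : 3 * (2 * h + 1) ≤ m * (2 * h + 1) := Nat.mul_le_mul_right _ (by omega)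
      omega
    have h3 : 1 < m := by
      by_contra hc
      have : m * (2 * h + 1) ≤ 1 * (2 * h + 1) := Nat.mul_le_mul_right _ (by omega)
      omega
    omega
  subst hm2
  have hs : B + B' = 2 := by omega
  have hu : C + D + 1 = h := by omega
  obtain ⟨k, hk⟩ := he
  have key : ((4 * C + B + A * (2 * h + 1)) * (2 * h + 1) : ℤ) = (4 * h - 1) * (2 * h + 1) := by
    have heq' : (1 + A * (2 * h + 1) ^ 2 + B * (h + 1) ^ 2 + B' * h ^ 2 +
      C * (2 * h + 2) ^ 2 + D * (2 * h) ^ 2 : ℤ) =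
        2 * h * (h + 1) * (2 * h + 1) := by
      exact_mod_cast heq
    have hB2 : (B' : ℤ) = 2 - B := by omega
    have hD2 : (D : ℤ) = h - 1 - C := by omega
    linear_combination heq' - h ^ 2 * hB2 - 4 * h ^ 2 * hD2
  have key2 : (4 * C + B + A * (2 * h + 1) : ℤ) = 4 * h - 1 :=
    mul_right_cancel₀ (by positivity) key
  have key3 : 4 * C + B + A * (2 * h + 1) + 1 = 4 * h := by
    have : (4 * C + B + A * (2 * h + 1) + 1 : ℤ) = 4 * h := by linarith
    exact_mod_cast this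
  have hA' : A = 0 ∨ A = 1 := by omega
  rcases hA' with rfl | rfl
  · omega
  · omega

/-- The quotients of `G`, first case. -/
theorem num_one {h A C D m M : ℕ} (h4 : 4 ≤ h) (he : Even h) (hA' : A = 0 ∨ A = 1)
    (hmM : m * M = 2 * h * (h + 1))
    (hCD : 2 * (C + D) + 2 = h)
    (hm1 : m + 2 * h = h ^ 2 + 2 + 4 * C + A * (2 * h + 1)) :
    A = 0 ∧ h = 4 ∧ C = 0 ∧ D = 1 := by
  obtain ⟨k, hk⟩ := he
  have hs : ∃ s, s = h ^ 2 := ⟨_, rfl⟩
  obtain ⟨s, hs⟩ := hs
  have hsh : 4 * h ≤ s := by rw [hs, pow_two]; exact Nat.mul_le_mul_right _ h4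
  have hmM' : m * M = 2 * s + 2 * h := by rw [hmM, hs]; ring
  rw [← hs] at hm1
  rcases hA' with rfl | rfl
  · -- `A = 0`
    rcases Nat.lt_or_ge M 3 with hM3 | hM3
    · exfalso
      interval_cases M <;> omega
    · have h5 : m * 3 ≤ m * M := Nat.mul_le_mul_left _ hM3
      have h6 : h < 8 := by
        by_contra hc
        have : 8 * h ≤ s := by rw [hs, pow_two]; exact Nat.mul_le_mul_right _ (by omega)
        omega
      have h7 : h = 4 ∨ h = 6 := by omega
      rcases h7 with rfl | rfl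
      · have hCD2 : C = 0 ∨ C = 1 := by omega
        rcases hCD2 with rfl | rfl
        · exact ⟨rfl, rfl, rfl, by omega⟩
        · exfalso
          have : m = 14 := by omega
          subst this
          omega
      · exfalso
        have hCD2 : C = 0 ∨ C = 1 ∨ C = 2 := by omega
        rcases hCD2 with rfl | rfl | rfl
        · have : m = 26 := by omega
          subst this
          omega
        · have : m = 30 := by omega
          subst this
          omega
        · have : m = 34 := by omega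
          subst this
          omega
  · -- `A = 1`
    exfalso
    rcases Nat.lt_or_ge M 3 with hM3 | hM3
    · interval_cases M <;> omega
    · have h5 : m * 3 ≤ m * M := Nat.mul_le_mul_left _ hM3
      omega

/-- The quotients of `G`. -/
theorem num_quot {h A B C D M Q : ℕ} (h4 : 4 ≤ h) (he : Even h) (hA : A ≤ 1) (hB : B ≤ 2)
    (hC : 2 * C + 2 ≤ h) (hD : 2 * D ≤ h)
    (hQ : Q = 1 + A * (2 * h + 1) ^ 2 + B * (h + 1) ^ 2 + C * (2 * h + 2) ^ 2 + D * (2 * h) ^ 2)
    (hM : Q * M = 2 * h * (h + 1) * (2 * h + 1)) (hdvd : (2 * h + 1) ∣ Q) : M = 1 ∨ Q = 90 := by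
  obtain ⟨m, hm⟩ := hdvd
  have hmM : m * M = 2 * h * (h + 1) := by
    have : (m * M) * (2 * h + 1) = (2 * h * (h + 1)) * (2 * h + 1) := by
      rw [← hM, hm]; ring
    exact Nat.eq_of_mul_eq_mul_right (by omega) this
  have hQ' : ((2 * h + 1) * m : ℤ) = 1 + A * (2 * h + 1) ^ 2 + B * (h + 1) ^ 2 +
      C * (2 * h + 2) ^ 2 + D * (2 * h) ^ 2 := by
    have := hm.symm.trans hQ
    exact_mod_cast this
  have hdvd : (2 * h + 1 : ℤ) ∣ 4 * (C + D) + B + 4 := by
    refine ⟨4 * m - 4 * A * (2 * h + 1) - B * (2 * h + 1) - 2 * B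
       - 4 * C * (2 * h + 1) - 8 * C - 4 * D * (2 * h - 1), ?_⟩
    linear_combination - 4 * hQ'
  have h1 : (2 * h + 1) ∣ 4 * (C + D) + B + 4 := by exact_mod_cast hdvd
  obtain ⟨n, hn⟩ := h1
  have hn2 : n = 1 ∨ n = 2 := by
    have h2 : n < 3 := by
      by_contra hc
      have : (2 * h + 1) * 3 ≤ (2 * h + 1) * n := Nat.mul_le_mul_left _ (by omega)
      omega
    have h3 : 0 < n := by
      rcases Nat.eq_zero_or_pos n with rfl | h3
      · omega
      · exact h3
    omega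
  have hA' : A = 0 ∨ A = 1 := by omega
  rcases hn2 with rfl | rfl
  · -- `4 (C + D) + B + 4 = 2 h + 1`
    have hB1 : B = 1 := by
      obtain ⟨k, hk⟩ := he
      omega
    subst hB1
    have hCD : 2 * (C + D) + 2 = h := by omega
    have hm1 : m + 2 * h = h ^ 2 + 2 + 4 * C + A * (2 * h + 1) := by
      have h5 : ((m + 2 * h) * (2 * h + 1) : ℤ) = (h ^ 2 + 2 + 4 * C + A * (2 * h + 1)) * (2 * h + 1) := by
        have hD2 : (2 * D : ℤ) = h - 2 - 2 * C := by omega
        push_cast at hQ'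
        linear_combination hQ' + 2 * h ^ 2 * hD2
      have h6 : (m + 2 * h : ℤ) = (h ^ 2 + 2 + 4 * C + A * (2 * h + 1)) :=
        mul_right_cancel₀ (by positivity) h5
      exact_mod_cast h6
    obtain ⟨rfl, rfl, rfl, rfl⟩ := num_one h4 he hA' hmM hCD hm1
    right
    rw [hQ]
    norm_num
  · left
    have hB2 : B = 2 := by omega
    subst hB2
    have hC2 : 2 * C + 2 = h := by omega
    have hD2 : 2 * D = h := by omega
    have hG : Q + (1 - A) * (2 * h + 1) ^ 2 = 2 * h * (h + 1) * (2 * h + 1) := by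
      rw [hQ]
      obtain rfl : D = C + 1 := by omega
      obtain rfl : h = 2 * C + 2 := hC2.symm
      rcases hA' with rfl | rfl
      · simp only [Nat.sub_zero]
        ring
      · simp only [Nat.sub_self]
        ring
    have hQpos : 0 < Q := by
      rw [hQ]; positivity
    rcases hA' with rfl | rfl
    · exfalso
      rw [← hM] at hG
      simp only [Nat.sub_zero, one_mul] at hG
      have hM2 : 2 ≤ M := by
        by_contra hc
        have : M = 0 ∨ M = 1 := by omega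
        have h9 : 0 < (2 * h + 1) ^ 2 := by positivity
        rcases this with rfl | rfl
        · rw [mul_zero] at hG; omega
        · rw [mul_one] at hG; omega
      have h5 : Q * 2 ≤ Q * M := Nat.mul_le_mul_left _ hM2
      have h6 : Q ≤ (2 * h + 1) ^ 2 := by
        have : Q * 2 ≤ Q + (2 * h + 1) ^ 2 := by rw [hG]; exact h5
        omega
      rw [hQ] at h6
      nlinarith
    · simp only [Nat.sub_self, zero_mul, add_zero] at hG
      rw [← hM] at hG
      have : Q * M = Q * 1 := by rw [mul_one]; exact hG.symm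
      exact Nat.eq_of_mul_eq_mul_left hQpos this

end Cfsg.Agent.H727.PslSqNum
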