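import Mathlib
import Cfsg.Agent.H596.Degree
import Cfsg.Agent.H113.NormTwoChar
import Cfsg.Agent.CharactersDeep.CliffordSum
import Cfsg.Agent.CharactersDeep.NormalInd
import Cfsg.Agent.H670.SL2Odd
import Cfsg.Agent.ClassicalGeometry.PSL2Basic
import Cfsg.Agent.TwoFusion.SimpleOddIndex
import Cfsg.Agent.TwoFusion.SLTwoFacts
import Cfsg.Agent.H438.MaxOrders
import Cfsg.Agent.S0493
import Cfsg.Agent.SmallSimple.PrimeLocal
import Cfsg.Agent.H727.DegCount
import Cfsg.Agent.H727.PslSqNum

/-!
# Groups with the degrees of `PSL(2, p ^ 2)`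
-/

set_option autoImplicit false

namespace Cfsg.Agent.H727.PslSq

open Cfsg Cfsg.Agent.Characters.Core Cfsg.Agent.H727.DegCount Matrix
open Cfsg.Agent.Blocks.Basic

theorem commutator_of_surjective {G H : Type*} [Group G] [Group H] (f : G →* H)
    (hf : Function.Surjective f) (h : commutator G = ⊤) : commutator H = ⊤ := by
  rw [commutator_def] at h ⊢
  have h1 : (⊤ : Subgroup H) = (⊤ : Subgroup G).map f := by
    rw [← MonoidHom.range_eq_map]
    exact (MonoidHom.range_eq_top.2 hf).symm
  conv_lhs => rw [h1, ← Subgroup.map_commutator, h]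
  exact h1.symm

theorem eq_top_of_index_dvd_pow {G : Type*} [Group G] [Finite G] {p k : ℕ} (hp : p.Prime)
    (hG : commutator G = ⊤) (N : Subgroup G) [N.Normal] (h : N.index ∣ p ^ k) : N = ⊤ := by
  by_contra hN
  obtain ⟨j, -, hj⟩ := (Nat.dvd_prime_pow hp).1 h
  have : Fact p.Prime := ⟨hp⟩
  have hpg : IsPGroup p (G ⧸ N) := IsPGroup.of_card (n := j) (by rw [← Subgroup.index_eq_card, hj])
  have hnil : Group.IsNilpotent (G ⧸ N) := hpg.isNilpotent
  have hsol : Group.IsSolvable (G ⧸ N) := inferInstance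
  have hnt : Nontrivial (G ⧸ N) := by
    rw [← not_subsingleton_iff_nontrivial]
    intro hs
    exact hN (QuotientGroup.subgroup_eq_top_of_subsingleton N hs)
  have h1 := Group.IsSolvable.commutator_lt_top_of_nontrivial (G ⧸ N)
  rw [commutator_of_surjective (QuotientGroup.mk' N) (QuotientGroup.mk'_surjective N) hG] at h1
  exact lt_irrefl _ h1

/-- A normal subgroup of order divisible by `p`, when `p ^ 2` is the only degree divisible by `p`
and there is only one character of this degree. -/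
theorem not_dvd_card {G : Type*} [Group G] [Finite G] {p : ℕ} (hp : p.Prime)
    (hG : commutator G = ⊤) (h1 : cnt G (p ^ 2) = 1)
    (hdeg : ∀ d, 0 < cnt G d → p ∣ d → d = p ^ 2) (hcard : ¬ p ^ 3 ∣ Nat.card G)
    (N : Subgroup G) [hNn : N.Normal] (hN : N ≠ ⊤) : ¬ p ∣ Nat.card N := by
  classical
  have := Fintype.ofFinite G
  have := Fintype.ofFinite N
  intro hpN
  obtain ⟨⟨χ, hχ⟩, hχ1⟩ := exists_of_cnt_pos (G := G) (d := p ^ 2) (by rw [h1]; exact one_pos)
  have hχ1' : χ 1 = ((p ^ 2 : ℕ) : ℂ) := hχ1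
  have hres := Cfsg.Agent.Characters.Clifford.isCharacter_restrict N (isIrr_isCharacter hχ)
  have hres0 : (fun n : N => χ n) ≠ 0 := by
    intro h0
    have h2 := congrFun h0 1
    simp only [OneMemClass.coe_one, Pi.zero_apply] at h2
    exact isIrr_apply_one_ne_zero hχ h2
  obtain ⟨θ, hθ, hover⟩ := H113.NormTwoChar.exists_constituent hres hres0
  obtain ⟨n, hn0, hn⟩ := isIrr_apply_one hθ
  obtain ⟨hd1, hd2⟩ := H596.charDegree_dvd_of_over N hχ hθ hover
  have hcχ : charDegree χ = p ^ 2 := by
    have := irr_one_eq_charDegree hχ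
    rw [hχ1'] at this
    exact_mod_cast this.symm
  have hcθ : charDegree θ = n := by
    have := irr_one_eq_charDegree hθ
    rw [hn] at this
    exact_mod_cast this.symm
  rw [hcχ, hcθ] at hd1 hd2
  by_cases hpn : p ∣ n
  · -- the character `χ` is the only one over `θ`
    have huniq : ∀ ψ : IrrCharacter G, (ψ : G → ℂ) ≠ χ →
        classInner (indFun N θ) (ψ : G → ℂ) = 0 := by
      intro ψ hψ
      rw [CharactersDeep.NormalInd.classInner_indFun N θ _ (isIrr_isClassFunction ψ.2)]
      by_contra hne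
      have h2 : classInner (fun n : N => (ψ : G → ℂ) n) θ ≠ 0 := by
        intro h3
        apply hne
        rw [← classInner_conj_symm, h3, map_zero]
      obtain ⟨m, hm⟩ := CharDeep.PowerDegrees.degree_dvd N ψ.2 hθ h2
      have h3 : (ψ : G → ℂ) 1 = ((m * n : ℕ) : ℂ) := by
        rw [hm, hn]; push_cast; ring
      have h4 := hdeg _ (cnt_pos ψ h3) (hpn.mul_left m)
      rw [h4] at h3
      exact hψ (eq_of_cnt_le_one h1.le ψ.2 hχ h3 hχ1')
    have hfin := finite_irr (G := G)
    have : Fintype (IrrCharacter G) := Fintype.ofFinite _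
    have hsum := classFunction_eq_sum (CharactersDeep.NormalInd.indFun_isClassFunction N θ)
    rw [Finset.sum_eq_single (⟨χ, hχ⟩ : IrrCharacter G)
      (fun ψ _ hψ => by
        rw [huniq ψ (fun h => hψ (Subtype.ext h)), zero_smul])
      (fun h => absurd (Finset.mem_univ _) h)] at hsum
    have hval := congrFun hsum 1
    rw [CharactersDeep.NormalInd.indFun_one, hn, Pi.smul_apply, smul_eq_mul,
      CharactersDeep.NormalInd.classInner_indFun N θ _ (isIrr_isClassFunction hχ)] at hval
    simp only [hχ1'] at hval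
    obtain ⟨e, he⟩ := classInner_isNat (isIrr_isCharacter hθ) hres
    rw [he] at hval
    have hval' : N.index * n = e * p ^ 2 := by exact_mod_cast hval
    have he' : classInner (fun n : N => χ n) θ = e := by
      rw [← classInner_conj_symm, he, Complex.conj_natCast]
    have hcl := CharactersDeep.CliffordSum.restrict_eq_smul_sum N hχ hθ hover
    have hcl1 := congrFun hcl 1
    rw [he', Pi.smul_apply, Finset.sum_apply, Finset.sum_congr rfl (g := fun _ => (n : ℂ))] at hcl1
    · simp only [OneMemClass.coe_one, hχ1', Finset.sum_const, nsmul_eq_mul, smul_eq_mul] at hcl1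
      have hcl2 : p ^ 2 = e * ((Finset.univ.image
          (fun x : G => θ ∘ (MulAut.conjNormal x : MulAut N))).card * n) := by exact_mod_cast hcl1
      have hep : e ∣ p ^ 2 := ⟨_, hcl2⟩
      have hidx : N.index ∣ p ^ 4 := by
        have h5 : N.index ∣ e * p ^ 2 := ⟨n, hval'.symm⟩
        exact h5.trans (by
          have : p ^ 4 = p ^ 2 * p ^ 2 := by ring
          rw [this]
          exact Nat.mul_dvd_mul_right hep _)
      exact hN (eq_top_of_index_dvd_pow hp hG N hidx)
    · intro ψ hψ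
      obtain ⟨x, -, rfl⟩ := Finset.mem_image.1 hψ
      rw [Function.comp_apply, map_one, hn]
  · -- `θ` is linear
    have hn1 : n = 1 := by
      obtain ⟨j, -, hj⟩ := (Nat.dvd_prime_pow hp).1 hd1
      rcases Nat.eq_zero_or_pos j with rfl | hj0
      · rw [hj, pow_zero]
      · exact absurd (by rw [hj]; exact dvd_pow_self p hj0.ne') hpn
    rw [hn1, Nat.div_one] at hd2
    apply hcard
    rw [← Subgroup.card_mul_index N, pow_succ']
    exact Nat.mul_dvd_mul hpN hd2

/-- The degrees of `PSL(2, q)`, `q = 2 h + 1`, `h` even. -/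
theorem psl_degrees {F : Type*} [Field F] [Fintype F] {h : ℕ} (hq : Fintype.card F = 2 * h + 1)
    (h4 : 4 ≤ h) (he : Even h) :
    (∀ d, 0 < cnt (ProjectiveSpecialLinearGroup (Fin 2) F) d →
      d ∈ ({1, 2 * h + 1, h + 1, 2 * h + 2, 2 * h} : Finset ℕ)) ∧
    cnt (ProjectiveSpecialLinearGroup (Fin 2) F) 1 = 1 ∧
    cnt (ProjectiveSpecialLinearGroup (Fin 2) F) (2 * h + 1) = 1 ∧
    cnt (ProjectiveSpecialLinearGroup (Fin 2) F) (h + 1) = 2 ∧
    2 * cnt (ProjectiveSpecialLinearGroup (Fin 2) F) (2 * h + 2) + 2 = h ∧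
    2 * cnt (ProjectiveSpecialLinearGroup (Fin 2) F) (2 * h) = h ∧
    Nat.card (ProjectiveSpecialLinearGroup (Fin 2) F) = 2 * h * (h + 1) * (2 * h + 1) := by
  classical
  have hfin : Finite (ProjectiveSpecialLinearGroup (Fin 2) F) := by
    unfold Matrix.ProjectiveSpecialLinearGroup
    infer_instance
  have hodd : Odd (Fintype.card F) := ⟨h, hq⟩
  obtain ⟨nu, hnu⟩ := H670.SL2.exists_not_square (F := F) hodd
  have hcard : Nat.card (ProjectiveSpecialLinearGroup (Fin 2) F) = 2 * h * (h + 1) * (2 * h + 1) := by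
    have h1 := ClassicalGeometry.PSL2Basic.card_PSL2_odd (F := F) hodd
    rw [hq] at h1
    have h2 : (2 * h + 1) ^ 2 - 1 = 4 * h * (h + 1) := by
      have : (2 * h + 1) ^ 2 = 4 * h * (h + 1) + 1 := by ring
      omega
    rw [h2] at h1
    have h3 : Nat.card (ProjectiveSpecialLinearGroup (Fin 2) F) * 2 =
        (2 * h * (h + 1) * (2 * h + 1)) * 2 := by rw [h1]; ring
    omega
  have hSL : ∀ d, cnt (SpecialLinearGroup (Fin 2) F) d =
      (h - 1) * (if 2 * h + 2 = d then 1 else 0) + (if 1 = d then 1 else 0) +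
      2 * (if h + 1 = d then 1 else 0) + (if 2 * h + 1 = d then 1 else 0) +
      h * (if 2 * h = d then 1 else 0) + 2 * (if h = d then 1 else 0) := fun d =>
    H670.SL2.card_degree hnu hq (d : ℂ) d rfl
  have hle : ∀ d, cnt (ProjectiveSpecialLinearGroup (Fin 2) F) d ≤
      cnt (SpecialLinearGroup (Fin 2) F) d := fun d =>
    cnt_le (QuotientGroup.mk' _) (QuotientGroup.mk'_surjective _) d
  have hmem : ∀ d, 0 < cnt (ProjectiveSpecialLinearGroup (Fin 2) F) d →
      d ∈ ({1, 2 * h + 1, h + 1, h, 2 * h + 2, 2 * h} : Finset ℕ) := by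
    intro d hd
    have h1 := hle d
    rw [hSL] at h1
    simp only [Finset.mem_insert, Finset.mem_singleton]
    by_contra hc
    push Not at hc
    obtain ⟨c1, c2, c3, c4, c5, c6⟩ := hc
    rw [if_neg (Ne.symm c5), if_neg (Ne.symm c1), if_neg (Ne.symm c3), if_neg (Ne.symm c2),
      if_neg (Ne.symm c6), if_neg (Ne.symm c4)] at h1
    omega
  have e1 : cnt (ProjectiveSpecialLinearGroup (Fin 2) F) 1 ≤ 1 := by
    refine (hle 1).trans (le_of_eq ?_)
    rw [hSL, if_neg (by omega), if_pos rfl, if_neg (by omega), if_neg (by omega), if_neg (by omega),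
      if_neg (by omega)]
    simp
  have e1' : cnt (ProjectiveSpecialLinearGroup (Fin 2) F) 1 = 1 := le_antisymm e1 cnt_one_pos
  have eA : cnt (ProjectiveSpecialLinearGroup (Fin 2) F) (2 * h + 1) ≤ 1 := by
    refine (hle _).trans (le_of_eq ?_)
    rw [hSL, if_neg (by omega), if_neg (by omega), if_neg (by omega), if_pos rfl, if_neg (by omega),
      if_neg (by omega)]
    simp
  have eB : cnt (ProjectiveSpecialLinearGroup (Fin 2) F) (h + 1) ≤ 2 := by
    refine (hle _).trans (le_of_eq ?_)
    rw [hSL, if_neg (by omega), if_neg (by omega), if_pos rfl, if_neg (by omega), if_neg (by omega),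
      if_neg (by omega)]
    simp
  have eB' : cnt (ProjectiveSpecialLinearGroup (Fin 2) F) h ≤ 2 := by
    refine (hle _).trans (le_of_eq ?_)
    rw [hSL, if_neg (by omega), if_neg (by omega), if_neg (by omega), if_neg (by omega),
      if_neg (by omega), if_pos rfl]
    simp
  have eC : cnt (ProjectiveSpecialLinearGroup (Fin 2) F) (2 * h + 2) + 1 ≤ h := by
    have h1 := hle (2 * h + 2)
    rw [hSL, if_pos rfl, if_neg (by omega), if_neg (by omega), if_neg (by omega), if_neg (by omega),
      if_neg (by omega)] at h1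
    omega
  have eD : cnt (ProjectiveSpecialLinearGroup (Fin 2) F) (2 * h) ≤ h := by
    have h1 := hle (2 * h)
    rw [hSL, if_neg (by omega), if_neg (by omega), if_neg (by omega), if_neg (by omega), if_pos rfl,
      if_neg (by omega)] at h1
    omega
  have hsum := sum_cnt _ hmem
  rw [Finset.sum_insert (by simp only [Finset.mem_insert, Finset.mem_singleton]; omega),
    Finset.sum_insert (by simp only [Finset.mem_insert, Finset.mem_singleton]; omega),
    Finset.sum_insert (by simp only [Finset.mem_insert, Finset.mem_singleton]; omega),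
    Finset.sum_insert (by simp only [Finset.mem_insert, Finset.mem_singleton]; omega),
    Finset.sum_insert (by simp only [Finset.mem_singleton]; omega), Finset.sum_singleton,
    hcard, e1'] at hsum
  obtain ⟨g1, g2, g3, g4, g5⟩ := PslSqNum.num_psl h4 he eA eB eB' eC eD (by rw [← hsum]; ring)
  refine ⟨fun d hd => ?_, e1', g1, g2, g4, g5, hcard⟩
  have h1 := hmem d hd
  simp only [Finset.mem_insert, Finset.mem_singleton] at h1 ⊢
  rcases h1 with h1 | h1 | h1 | h1 | h1 | h1
  · exact Or.inl h1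
  · exact Or.inr (Or.inl h1)
  · exact Or.inr (Or.inr (Or.inl h1))
  · rw [h1, g3] at hd
    exact absurd hd (lt_irrefl 0)
  · exact Or.inr (Or.inr (Or.inr (Or.inl h1)))
  · exact Or.inr (Or.inr (Or.inr (Or.inr h1)))

/-- There is no perfect group of order `90`. -/
theorem card_ne_90 {G : Type*} [Group G] [Finite G] (hG : commutator G = ⊤) : Nat.card G ≠ 90 := by
  intro h
  have : Fact (Nat.Prime 2) := ⟨Nat.prime_two⟩
  let P : Sylow 2 G := default
  have hP : Nat.card P = 2 := SmallSimple.PrimeLocal.card_of_not_sq_dvd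
    (by rw [h]; norm_num) (by rw [h]; norm_num) P
  have hcyc : IsCyclic (P : Subgroup G) := isCyclic_of_prime_card (p := 2) hP
  obtain ⟨H, hH⟩ := TwoFusion.SimpleOddIndex.exists_index_two_of_cyclic P hcyc (by rw [h]; norm_num)
  have hn : H.Normal := Subgroup.normal_of_index_eq_two hH
  have h1 := eq_top_of_index_dvd_pow (k := 1) Nat.prime_two hG H (by rw [hH, pow_one])
  rw [h1, Subgroup.index_top] at hH
  omega

/-- A group with the degrees of `PSL(2, q)`, `q = p ^ 2` odd, is simple. -/
theorem isSimpleGroup {F : Type*} [Field F] [Fintype F] {p : ℕ} (hp : p.Prime) (hp2 : p ≠ 2)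
    (hF : Fintype.card F = p ^ 2) {G : Type*} [Group G] [Finite G]
    (hcnt : ∀ d : ℕ, cnt G d = cnt (ProjectiveSpecialLinearGroup (Fin 2) F) d) :
    IsSimpleGroup G := by
  classical
  have hfin : Finite (ProjectiveSpecialLinearGroup (Fin 2) F) := by
    unfold Matrix.ProjectiveSpecialLinearGroup
    infer_instance
  -- `p ^ 2 = 2 h + 1`, `4 ∣ h`
  have hodd : Odd p := hp.odd_of_ne_two hp2
  obtain ⟨k, hk⟩ := hodd
  obtain ⟨h, hh, h4, he⟩ : ∃ h, p ^ 2 = 2 * h + 1 ∧ 4 ≤ h ∧ Even h := by
    have hk1 : 1 ≤ k := by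
      have := hp.two_le
      omega
    refine ⟨2 * (k * (k + 1)), by rw [hk]; ring, by nlinarith, even_two_mul _⟩
  have hq : Fintype.card F = 2 * h + 1 := by rw [hF, hh]
  obtain ⟨hS, c1, cA, cB, cC, cD, hcard⟩ := psl_degrees hq h4 he
  have hcG : Nat.card G = 2 * h * (h + 1) * (2 * h + 1) := by
    rw [card_eq_of_cnt hcnt, hcard]
  have hG : commutator G = ⊤ := commutator_eq_top_of_cnt (by rw [hcnt, c1])
  have hSG : ∀ d, 0 < cnt G d → d ∈ ({1, 2 * h + 1, h + 1, 2 * h + 2, 2 * h} : Finset ℕ) :=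
    fun d hd => hS d (by rw [← hcnt]; exact hd)
  have hph : p ∣ 2 * h + 1 := by rw [← hh]; exact dvd_pow_self p two_ne_zero
  have hph0 : ¬ p ∣ h := by
    intro h1
    have h2 : p ∣ 1 := (Nat.dvd_add_right (h1.mul_left 2)).1 hph
    exact hp.one_lt.ne' (Nat.dvd_one.1 h2)
  have hph1 : ¬ p ∣ h + 1 := by
    intro h1
    have h2 : p ∣ 2 * (h + 1) := h1.mul_left 2
    have h3 : 2 * (h + 1) = (2 * h + 1) + 1 := by ring
    rw [h3] at h2
    exact hp.one_lt.ne' (Nat.dvd_one.1 ((Nat.dvd_add_right hph).1 h2))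
  have hp2' : ¬ p ∣ 2 := fun h1 => hp2 ((Nat.prime_dvd_prime_iff_eq hp Nat.prime_two).1 h1)
  have hdeg : ∀ d, 0 < cnt G d → p ∣ d → d = p ^ 2 := by
    intro d hd hpd
    have h1 := hSG d hd
    simp only [Finset.mem_insert, Finset.mem_singleton] at h1
    rcases h1 with rfl | rfl | rfl | rfl | rfl
    · exact absurd (Nat.dvd_one.1 hpd) hp.one_lt.ne'
    · exact hh.symm
    · exact absurd hpd hph1
    · have h3 : 2 * h + 2 = 2 * (h + 1) := by ring
      rw [h3] at hpd
      rcases (hp.dvd_mul).1 hpd with h4 | h4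
      · exact absurd h4 hp2'
      · exact absurd h4 hph1
    · rcases (hp.dvd_mul).1 hpd with h4 | h4
      · exact absurd h4 hp2'
      · exact absurd h4 hph0
  have hp3 : ¬ p ^ 3 ∣ Nat.card G := by
    rw [hcG, ← hh, pow_succ']
    intro h1
    have h2 : p ∣ 2 * h * (h + 1) := Nat.dvd_of_mul_dvd_mul_right (pow_pos hp.pos 2) h1
    rcases (hp.dvd_mul).1 h2 with h3 | h3
    · rcases (hp.dvd_mul).1 h3 with h4 | h4
      · exact hp2' h4
      · exact hph0 h4
    · exact hph1 h3
  have hnt : Nontrivial G := by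
    rw [← Finite.one_lt_card_iff_nontrivial, hcG]
    calc 1 < 2 * 4 * (4 + 1) * (2 * 4 + 1) := by norm_num
      _ ≤ 2 * h * (h + 1) * (2 * h + 1) := by gcongr
  have cA' : cnt G (p ^ 2) = 1 := by rw [hcnt, hh, cA]
  refine ⟨fun N hN => ?_⟩
  by_cases hNt : N = ⊤
  · exact Or.inr hNt
  left
  have hpN := not_dvd_card hp hG cA' hdeg hp3 N hNt
  have hQ : commutator (G ⧸ N) = ⊤ :=
    commutator_of_surjective (QuotientGroup.mk' N) (QuotientGroup.mk'_surjective N) hG
  have hle : ∀ d, cnt (G ⧸ N) d ≤ cnt G d := fun d =>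
    cnt_le (QuotientGroup.mk' N) (QuotientGroup.mk'_surjective N) d
  have hsum := sum_cnt (G := G ⧸ N) _ (fun d hd => hSG d (hd.trans_le (hle d)))
  have q1 : cnt (G ⧸ N) 1 = 1 := le_antisymm ((hle 1).trans (by rw [hcnt, c1])) cnt_one_pos
  have qA : cnt (G ⧸ N) (2 * h + 1) ≤ 1 := (hle _).trans (by rw [hcnt, cA])
  have qB : cnt (G ⧸ N) (h + 1) ≤ 2 := (hle _).trans (by rw [hcnt, cB])
  have qC : 2 * cnt (G ⧸ N) (2 * h + 2) + 2 ≤ h := by
    have := hle (2 * h + 2)
    rw [hcnt] at this
    omega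
  have qD : 2 * cnt (G ⧸ N) (2 * h) ≤ h := by
    have := hle (2 * h)
    rw [hcnt] at this
    omega
  rw [Finset.sum_insert (by simp only [Finset.mem_insert, Finset.mem_singleton]; omega),
    Finset.sum_insert (by simp only [Finset.mem_insert, Finset.mem_singleton]; omega),
    Finset.sum_insert (by simp only [Finset.mem_insert, Finset.mem_singleton]; omega),
    Finset.sum_insert (by simp only [Finset.mem_singleton]; omega), Finset.sum_singleton,
    q1] at hsum
  have hprod : Nat.card (G ⧸ N) * Nat.card N = 2 * h * (h + 1) * (2 * h + 1) := by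
    rw [← Subgroup.card_eq_card_quotient_mul_card_subgroup, hcG]
  have hdvd : (2 * h + 1) ∣ Nat.card (G ⧸ N) := by
    have h1 : p ^ 2 ∣ Nat.card (G ⧸ N) * Nat.card N := by
      rw [hprod, hh]; exact dvd_mul_left _ _
    rw [← hh]
    exact (Nat.Coprime.pow_left 2 ((hp.coprime_iff_not_dvd).2 hpN)).dvd_of_dvd_mul_right h1
  rcases PslSqNum.num_quot h4 he qA qB qC qD (by rw [← hsum]; ring) hprod hdvd with h1 | h1
  · exact Subgroup.eq_bot_of_card_eq N h1
  · exact absurd h1 (card_ne_90 hQ)

/-- A perfect group of order `60` is simple. -/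
theorem isSimpleGroup_of_card_60 {G : Type*} [Group G] [Finite G] (hG : commutator G = ⊤)
    (h : Nat.card G = 60) : IsSimpleGroup G := by
  have hnt : Nontrivial G := by
    rw [← Finite.one_lt_card_iff_nontrivial, h]
    norm_num
  obtain ⟨N, hN, hs⟩ := H438.MaxOrders.exists_simple_quotient G
  have hle : Nat.card (G ⧸ N) ∣ 60 := by
    rw [← h]
    exact Subgroup.card_quotient_dvd_card N
  have hnc : ¬ IsCyclic (G ⧸ N) := by
    intro hc
    have h1 : commutator (G ⧸ N) = ⊤ :=
      commutator_of_surjective (QuotientGroup.mk' N) (QuotientGroup.mk'_surjective N) hG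
    have h2 := Group.IsSolvable.commutator_lt_top_of_nontrivial (G ⧸ N)
    rw [h1] at h2
    exact lt_irrefl _ h2
  have h60 := S0493.result hnc ((Nat.le_of_dvd (by norm_num) hle).trans (by norm_num))
  have h1 := Subgroup.card_eq_card_quotient_mul_card_subgroup N
  rw [h, h60] at h1
  have h2 : N = ⊥ := Subgroup.eq_bot_of_card_eq N (by omega)
  have e : G ≃* G ⧸ N := (QuotientGroup.quotientBot (G := G)).symm.trans
    (QuotientGroup.quotientMulEquivOfEq h2.symm)
  exact e.isSimpleGroup

/-- A group with the degrees of `PSL(2, 4)` is simple. -/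
theorem isSimpleGroup_four {F : Type*} [Field F] [Fintype F] (hF : Fintype.card F = 4)
    {G : Type*} [Group G] [Finite G]
    (hcnt : ∀ d : ℕ, cnt G d = cnt (ProjectiveSpecialLinearGroup (Fin 2) F) d) :
    IsSimpleGroup G := by
  have hfin : Finite (ProjectiveSpecialLinearGroup (Fin 2) F) := by
    unfold Matrix.ProjectiveSpecialLinearGroup
    infer_instance
  have hcard : Nat.card (ProjectiveSpecialLinearGroup (Fin 2) F) = 60 := by
    rw [ClassicalGeometry.PSL2Basic.card_PSL2_even (F := F) (by rw [hF]; decide), hF]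
    norm_num
  have h60 : Nat.card G = 60 := by rw [card_eq_of_cnt hcnt, hcard]
  refine isSimpleGroup_of_card_60 ?_ h60
  apply commutator_eq_top_of_cnt
  rw [hcnt, cnt_one, Subgroup.index_eq_one]
  exact commutator_of_surjective (QuotientGroup.mk' _) (QuotientGroup.mk'_surjective _)
    (TwoFusion.SLTwoFacts.commutator_eq_top (F := F) (by omega))

end Cfsg.Agent.H727.PslSq
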