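import Mathlib

/-!
# The order of `PSL(2, q)` is not the order of `PSp(2 m, q')`, `m ≥ 3`, `q'` odd
-/

set_option autoImplicit false

namespace Cfsg.Agent.H727.PslOrdNum

/-- Odd prime powers dividing `2 q (q ^ 2 - 1)` are at most `q + 1`. -/
theorem le_of_dvd {p e r k q : ℕ} (hp : p.Prime) (hr : r.Prime) (hr2 : r ≠ 2) (hq : q = p ^ e)
    (hq4 : 4 ≤ q) (h : r ^ k ∣ 2 * (q * (q ^ 2 - 1))) : r ^ k ≤ q + 1 := by
  have hfac : q ^ 2 - 1 = (q + 1) * (q - 1) := by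
    have := Nat.sq_sub_sq q 1
    simpa using this
  have h2 : Nat.Coprime (r ^ k) 2 := Nat.Coprime.pow_left _ ((Nat.coprime_primes hr Nat.prime_two).2 hr2)
  have h3 : r ^ k ∣ q * (q ^ 2 - 1) := h2.dvd_of_dvd_mul_left h
  by_cases hrp : r = p
  · have hcop : Nat.Coprime (r ^ k) (q ^ 2 - 1) := by
      apply Nat.Coprime.pow_left
      rw [hr.coprime_iff_not_dvd]
      intro h4
      have he : e ≠ 0 := by
        rintro rfl
        rw [pow_zero] at hq
        omega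
      have h5 : r ∣ q ^ 2 := by
        rw [hq, hrp]
        exact Dvd.dvd.pow (dvd_pow_self p he) two_ne_zero
      have h6 : r ∣ 1 := by
        have h7 : q ^ 2 = (q ^ 2 - 1) + 1 := by
          have : 0 < q ^ 2 := by positivity
          omega
        rw [h7] at h5
        exact (Nat.dvd_add_right h4).1 h5
      exact hr.one_lt.ne' (Nat.dvd_one.1 h6)
    have h4 : r ^ k ∣ q := hcop.dvd_of_dvd_mul_right h3
    exact (Nat.le_of_dvd (by omega) h4).trans (by omega)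
  · have hcop : Nat.Coprime (r ^ k) q := by
      rw [hq]
      exact Nat.Coprime.pow _ _ ((Nat.coprime_primes hr hp).2 hrp)
    have h4 : r ^ k ∣ (q + 1) * (q - 1) := by
      rw [← hfac]
      exact hcop.dvd_of_dvd_mul_left h3
    by_cases h5 : r ∣ q + 1
    · have h6 : ¬ r ∣ q - 1 := by
        intro h6
        have h7 : r ∣ 2 := by
          have : q + 1 = (q - 1) + 2 := by omega
          rw [this] at h5
          exact (Nat.dvd_add_right h6).1 h5
        exact hr2 ((Nat.prime_dvd_prime_iff_eq hr Nat.prime_two).1 h7)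
      have h7 : Nat.Coprime (r ^ k) (q - 1) := Nat.Coprime.pow_left _ (hr.coprime_iff_not_dvd.2 h6)
      exact Nat.le_of_dvd (by omega) (h7.dvd_of_dvd_mul_right h4)
    · have h7 : Nat.Coprime (r ^ k) (q + 1) := Nat.Coprime.pow_left _ (hr.coprime_iff_not_dvd.2 h5)
      exact (Nat.le_of_dvd (by omega) (h7.dvd_of_dvd_mul_left h4)).trans (by omega)

theorem prod_le {q : ℕ} (_ : 3 ≤ q) (m : ℕ) :
    ∏ i ∈ Finset.range m, (q ^ (2 * (i + 1)) - 1) ≤ q ^ (m * (m + 1)) := by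
  induction m with
  | zero => simp
  | succ m ih =>
    rw [Finset.prod_range_succ]
    have h1 : (m + 1) * (m + 1 + 1) = m * (m + 1) + 2 * (m + 1) := by ring
    rw [h1, pow_add]
    exact Nat.mul_le_mul ih (Nat.sub_le _ _)

/-- The orders are different. -/
theorem ne_order {p e r f q q' m N g : ℕ} (hp : p.Prime) (hr : r.Prime) (hq : q = p ^ e)
    (hq4 : 4 ≤ q) (hq' : q' = r ^ f) (hodd : Odd q') (h1 : 1 < q') (hm : 3 ≤ m)
    (hg : g ≤ 2) (hN : N * g = q * (q ^ 2 - 1))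
    (hN' : 2 * N = q' ^ (m ^ 2) * ∏ i ∈ Finset.range m, (q' ^ (2 * (i + 1)) - 1)) : False := by
  have hf : f ≠ 0 := by
    rintro rfl
    rw [pow_zero] at hq'
    omega
  have hr2 : r ≠ 2 := by
    rintro rfl
    have : Even q' := by
      rw [hq']
      exact (Nat.even_pow.2 ⟨even_two, hf⟩)
    exact (Nat.not_even_iff_odd.2 hodd) this
  have h3 : 3 ≤ q' := by
    rcases hodd with ⟨k, hk⟩
    omega
  have hX : q' ^ (m ^ 2) ≤ q + 1 := by
    have h4 : q' ^ (m ^ 2) = r ^ (f * m ^ 2) := by rw [hq', pow_mul]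
    rw [h4]
    apply le_of_dvd hp hr hr2 hq hq4
    rw [← h4, ← hN]
    have h5 : q' ^ (m ^ 2) ∣ 2 * N := ⟨_, hN'⟩
    rw [← mul_assoc]
    exact h5.mul_right g
  have hP : 729 * ∏ i ∈ Finset.range m, (q' ^ (2 * (i + 1)) - 1) ≤ (q' ^ (m ^ 2)) ^ 2 := by
    have h5 : m * (m + 1) + 6 ≤ m ^ 2 * 2 := by nlinarith
    calc 729 * ∏ i ∈ Finset.range m, (q' ^ (2 * (i + 1)) - 1) ≤ q' ^ 6 * q' ^ (m * (m + 1)) := by
          refine Nat.mul_le_mul ?_ (prod_le h3 m)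
          calc 729 = 3 ^ 6 := by norm_num
            _ ≤ q' ^ 6 := Nat.pow_le_pow_left h3 6
      _ = q' ^ (m * (m + 1) + 6) := by rw [pow_add, mul_comm]
      _ ≤ q' ^ (m ^ 2 * 2) := Nat.pow_le_pow_right (by omega) h5
      _ = (q' ^ (m ^ 2)) ^ 2 := pow_mul _ _ _
  have hN2 : q * (q ^ 2 - 1) ≤ 2 * N := by
    rw [← hN, mul_comm]
    exact Nat.mul_le_mul_right _ hg
  set X := q' ^ (m ^ 2) with hXdef
  set P := ∏ i ∈ Finset.range m, (q' ^ (2 * (i + 1)) - 1) with hPdef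
  have h6 : 729 * (2 * N) ≤ (q + 1) ^ 3 := by
    calc 729 * (2 * N) = X * (729 * P) := by rw [hN']; ring
      _ ≤ X * X ^ 2 := Nat.mul_le_mul_left _ hP
      _ = X ^ 3 := by ring
      _ ≤ (q + 1) ^ 3 := Nat.pow_le_pow_left hX 3
  have h7 : 729 * (q * (q ^ 2 - 1)) ≤ (q + 1) ^ 3 := (Nat.mul_le_mul_left _ hN2).trans h6
  obtain ⟨s, rfl⟩ : ∃ s, q = s + 4 := ⟨q - 4, by omega⟩
  have h8 : (s + 4) ^ 2 - 1 = s ^ 2 + 8 * s + 15 := by
    have : (s + 4) ^ 2 = s ^ 2 + 8 * s + 16 := by ring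
    omega
  rw [h8] at h7
  nlinarith

theorem psl_ne_20160 {q N g : ℕ} (hg : g = 1 ∨ g = 2) (hN : N * g = q * (q ^ 2 - 1)) : N ≠ 20160 := by
  rintro rfl
  rcases Nat.lt_or_ge q 35 with h | h
  · interval_cases q <;> omega
  · have h1 : 35 ^ 2 ≤ q ^ 2 := Nat.pow_le_pow_left h 2
    have h2 : 35 * (35 ^ 2 - 1) ≤ q * (q ^ 2 - 1) := Nat.mul_le_mul h (Nat.sub_le_sub_right h1 1)
    omega

end Cfsg.Agent.H727.PslOrdNum
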