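import Mathlib
import Cfsg.Agent.S3724
import Cfsg.Agent.S0292
import Cfsg.Agent.ClassicalGeometry.PSL2Basic
import Cfsg.Agent.TwoFusion.SLTwoFacts
import Cfsg.Agent.H727.PslOrdNum

/-!
# A finite simple group of the order of `PSL(2, q)` is isomorphic to `PSL(2, q)`
-/

set_option autoImplicit false

namespace Cfsg.Agent.H727.PslByOrder

open Cfsg Matrix

/-- **A finite simple group of order `|PSL(2, F)|` is isomorphic to `PSL(2, F)`.** -/
theorem psl_two_of_card {G : Type*} [Group G] [Finite G] [IsSimpleGroup G]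
    {F : Type*} [Field F] [Fintype F] (hF : 3 < Fintype.card F)
    (h : Nat.card G = Nat.card (ProjectiveSpecialLinearGroup (Fin 2) F)) :
    Nonempty (G ≃* ProjectiveSpecialLinearGroup (Fin 2) F) := by
  have hs : IsSimpleGroup (ProjectiveSpecialLinearGroup (Fin 2) F) :=
    TwoFusion.SLTwoFacts.isSimpleGroup_psl hF
  have hfin : Finite (ProjectiveSpecialLinearGroup (Fin 2) F) := by
    unfold Matrix.ProjectiveSpecialLinearGroup
    infer_instance
  have hcard := Cfsg.Agent.ClassicalGeometry.PSL2Basic.card_PSL2_gcd (F := F)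
  have hg : Nat.gcd 2 (Fintype.card F - 1) = 1 ∨ Nat.gcd 2 (Fintype.card F - 1) = 2 :=
    (Nat.dvd_prime Nat.prime_two).1 (Nat.gcd_dvd_left _ _)
  have hA : Nat.card (ProjectiveSpecialLinearGroup (Fin 2) F) ≠ 20160 :=
    PslOrdNum.psl_ne_20160 hg hcard
  have hA8 : Nat.card (alternatingGroup (Fin 8)) = 20160 := by
    have h2 : 2 * Nat.card (alternatingGroup (Fin 8)) = 40320 := by
      rw [Nat.card_eq_fintype_card, two_mul_card_alternatingGroup, Fintype.card_perm,
        Fintype.card_fin]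
      decide
    omega
  rcases S3724.result h with h1 | (⟨⟨e⟩, -⟩ | ⟨⟨e⟩, -⟩) | ⟨K, _, _, n, hodd, hn, h1⟩
  · exact h1
  · exact absurd (h.symm.trans ((Nat.card_congr e.toEquiv).trans hA8)) hA
  · exact absurd ((Nat.card_congr e.toEquiv).trans hA8) hA
  · exfalso
    have h2 : Nat.card (ProjectiveSpecialLinearGroup (Fin 2) F) =
        Nat.card (Cfsg.POmega K (Cfsg.quadFormOdd n K)) := by
      rcases h1 with ⟨⟨e⟩, -⟩ | ⟨⟨e⟩, -⟩
      · rw [← h, Nat.card_congr e.toEquiv]
      · rw [Nat.card_congr e.toEquiv]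
    have h3 := S0292.result (F := K) rfl hodd n hn
    rw [← h2] at h3
    obtain ⟨p, e, hp, -, hpe⟩ := (isPrimePow_nat_iff _).1 (FiniteField.isPrimePow_card F)
    obtain ⟨r, f, hr, -, hrf⟩ := (isPrimePow_nat_iff _).1 (FiniteField.isPrimePow_card K)
    exact PslOrdNum.ne_order hp hr hpe.symm hF hrf.symm hodd Fintype.one_lt_card hn
      (Nat.gcd_le_left _ two_pos) hcard h3

end Cfsg.Agent.H727.PslByOrder
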